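import Cfsg.Agent.Lib.Orth.Split
import Cfsg.Agent.Lib.Orth.TwoRank
import Cfsg.Agent.Lib.Bal.Fam

/-!
# Local balance for field automorphisms of orthogonal groups
-/

set_option autoImplicit false

namespace Cfsg.Lib.Orth

open QuadraticMap Module Gam Subgroup

variable {F K V A : Type*} [Field F] [Field K] [AddCommGroup V] [Module F V] {Q : QuadraticForm F V}
  {ι : Type} [Fintype ι] [DecidableEq ι] {φ : K →+* F} {ψ : Gam Q} [Group A] {ρ : Gam Q →* A}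

theorem mem_zpowers_of_fix [Finite F] {σ τ : F ≃+* F} (h : ∀ x, σ x = x → τ x = x) :
    τ ∈ zpowers σ := by
  obtain ⟨g, hg⟩ := FixedPoints.toAlgAut_surjective (zpowers σ) F
    { τ with commutes' := fun x => h _ (x.2 ⟨σ, mem_zpowers σ⟩) }
  exact (RingEquiv.ext fun x => DFunLike.congr_fun hg x : g.1 = τ) ▸ g.2

theorem exists_scal_mul_pow [Finite F] [Nontrivial V] (hρ : ρ.ker = (scal Q).range) {g : Gam Q}
    (h : ρ g ^ orderOf g.σ = 1) : ∃ s, (scal Q s * g) ^ orderOf g.σ = 1 := by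
  obtain ⟨u, hu⟩ : g ^ orderOf g.σ ∈ (scal Q).range := by rwa [← hρ, MonoidHom.mem_ker, map_pow]
  obtain ⟨w, hw⟩ := Linear.exists_nrm_unitsAut_eq (σ := g.σ) (u := u⁻¹) (by
    rw [map_inv, inv_inj]
    exact scal_injective (Q := Q) ((conj_scal g u).symm.trans (by rw [hu]; group)))
  exact ⟨w, by rw [Linear.mul_pow_eq_nrm (scal Q) (α := Linear.unitsAut g.σ) (mul_scal g), hw, ← hu,
    ← map_mul, inv_mul_cancel, map_one]⟩

theorem orderOf_σ_eq (hρ : ρ.ker = (scal Q).range) {g : Gam Q} {p : ℕ} [Fact p.Prime]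
    (h : orderOf (ρ g) = p) (hσ : g.σ ≠ 1) : orderOf g.σ = p := orderOf_eq_prime (by
  obtain ⟨u, hu⟩ : g ^ p ∈ (scal Q).range := by
    rw [← hρ, MonoidHom.mem_ker, map_pow, ← h, pow_orderOf_eq_one]
  rw [← pow_σ, ← hu, scal_σ]) hσ

theorem exists_commute_of_rho [Finite F] [Nontrivial V] (hρ : ρ.ker = (scal Q).range)
    (h1 : ψ ^ orderOf ψ.σ = 1) {g : Gam Q} (h : Commute (ρ ψ) (ρ g)) :
    ∃ s, Commute ψ (scal Q s * g) := by
  obtain ⟨u, hu⟩ : g * ψ * g⁻¹ * ψ⁻¹ ∈ (scal Q).range := by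
    rw [← hρ, MonoidHom.mem_ker, map_mul, map_mul, map_mul, ← h.eq]; simp
  have h2 := Linear.mul_pow_eq_nrm (scal Q) (α := Linear.unitsAut ψ.σ) (mul_scal ψ) u (orderOf ψ.σ)
  rw [hu, inv_mul_cancel_right, conj_pow, h1, mul_one, mul_inv_cancel, mul_one, eq_comm,
    map_eq_one_iff _ scal_injective] at h2
  obtain ⟨w, hw⟩ := Linear.hilbert90_units (orderOf_pos _) h2
  refine ⟨w⁻¹, ?_⟩
  rw [Commute, SemiconjBy, ← mul_assoc, mul_scal, mul_assoc _ g, ← inv_mul_cancel_right (g * ψ) g,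
    ← inv_mul_cancel_right (_ * g⁻¹) ψ, ← hu, hw, ← mul_assoc, ← mul_assoc, ← map_mul,
    inv_mul_cancel_left, map_inv]
  rfl

theorem two_dvd_card_pcom [Finite F] [FiniteDimensional F V] (hQ : ND Q) (h2 : (2 : F) ≠ 0)
    (h5 : 5 ≤ finrank F V) : 2 ∣ Nat.card (PCom (O Q)) := by
  obtain ⟨B, -, h1, hB⟩ := pRankAtLeast_omega hQ h2
  obtain ⟨a, ha⟩ := ne_bot_iff_exists_ne_one.1 ((one_lt_card_iff_ne_bot B).1
    ((Nat.one_lt_two_pow (by omega)).trans_le hB))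
  exact Bal.dvd_card_quotient_center (commutator_omega_eq_top hQ h5) ((orderOf_eq_prime (h1 a a.2)
    fun h => ha (Subtype.ext h)) ▸ orderOf_dvd_natCard _)

namespace FormData

variable {Q₀ : QuadraticForm K (ι → K)} (D : FormData ψ φ Q₀)
include D

omit [Fintype ι] [DecidableEq ι] in
theorem comp_injective : Function.Injective fun v : ι → K => D.e (φ ∘ v) := fun _ _ h =>
  funext fun i => φ.injective (congrFun (D.e.injective h) i)

/-- Restriction of a semisimilarity commuting with `ψ` to the fixed points of `ψ`. -/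
theorem exists_res [Finite K] (hφ : ∀ x, ψ.σ x = x → x ∈ φ.range) {v₀ : ι → K} (h₀ : Q₀ v₀ ≠ 0)
    {g : Gam Q} (h : Commute ψ g) : ∃ g₀ : Gam Q₀, (∀ a, φ (g₀.σ a) = g.σ (φ a)) ∧
      ∀ v, D.e (φ ∘ g₀.T v) = g.T (D.e (φ ∘ v)) := by
  haveI : Nonempty ι := by_contra fun h => h₀ (by
    rw [not_nonempty_iff] at h; rw [Subsingleton.elim v₀ 0, map_zero])
  have h1 : ∀ v, ∃ w, D.e (φ ∘ w) = g.T (D.e (φ ∘ v)) := fun v => by
    obtain ⟨x, hx⟩ := D.e.surjective (g.T (D.e (φ ∘ v)))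
    have : ψ.σ ∘ x = x := D.e.injective (by
      rw [← D.T_e, hx, ← mul_T, h.eq, mul_T, D.fix])
    choose w hw using fun i => hφ _ (congrFun this i)
    exact ⟨w, hx ▸ congrArg _ (funext hw)⟩
  have h2 : ∀ a, ∃ b, φ b = g.σ (φ a) := fun a => hφ _ (by
    rw [← RingAut.mul_apply, ← mul_σ, h.eq, mul_σ, RingAut.mul_apply, D.σ_φ])
  choose T hT using h1
  choose s hs using h2
  let σ : K →+* K := ⟨⟨⟨s, φ.injective (by simp [hs])⟩, fun a b => φ.injective (by simp [hs])⟩,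
    φ.injective (by simp [hs]), fun a b => φ.injective (by simp [hs])⟩
  let T' : (ι → K) →+ (ι → K) := .mk' T fun u v => D.comp_injective (by simp [hT, comp_add'])
  have h3 : ∀ v, D.c * φ (Q₀ (T v)) = g.c * g.σ D.c * φ (s (Q₀ v)) := fun v => by
    rw [← D.map_Q, hT, g.map_Q, D.map_Q, map_mul, hs, mul_assoc]
  have h4 : s (Q₀ v₀) ≠ 0 := (map_ne_zero σ).2 h₀
  refine ⟨⟨.ofBijective σ (Finite.injective_iff_bijective.1 σ.injective),
    .mk0 (Q₀ (T v₀) / s (Q₀ v₀)) (div_ne_zero (fun e => ?_) h4), .ofBijective T'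
    (Finite.injective_iff_bijective.1 fun u v e => D.comp_injective (g.T.injective ?_)),
    fun a v => D.comp_injective ?_, fun v => φ.injective (mul_left_cancel₀ D.hc ?_)⟩, hs, hT⟩
  · simpa [e, D.hc, h4] using h3 v₀
  · exact (hT u).symm.trans ((congrArg (fun w => D.e (φ ∘ w)) e).trans (hT v))
  · change D.e (φ ∘ T _) = D.e (φ ∘ (s a • T v))
    simp [hT, comp_smul', g.map_smul, hs]
  · change D.c * φ (Q₀ (T v)) = D.c * φ (Q₀ (T v₀) / s (Q₀ v₀) * s (Q₀ v))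
    rw [h3, map_mul, map_div₀, ← mul_assoc, ← mul_div_assoc, h3,
      mul_div_cancel_right₀ _ ((map_ne_zero φ).2 h4)]

theorem cj_jO {g : Gam Q} {g₀ : Gam Q₀} (h : ∀ v, D.e (φ ∘ g₀.T v) = g.T (D.e (φ ∘ v))) (o : O Q₀) :
    cj Q g (D.jO o) = D.jO (cj Q₀ g₀ o) := by
  refine O.ext (D.ext_T (g := ofO Q (cj Q g _)) (g' := ofO Q (D.jO _)) rfl rfl fun v => ?_)
  obtain ⟨v, rfl⟩ := g₀.T.surjective v
  rw [ofO_T, ofO_T, D.jO_apply, cj_apply_T, h, h, cj_apply_T, D.jO_apply]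

/-- The action of the small group `Ω(Q₀)`. -/
noncomputable def om (ρ : Gam Q →* A) : commutator (O Q₀) →* A :=
  ρ.comp ((ofO Q).comp (D.jO.comp (commutator _).subtype))

theorem om_apply (o : commutator (O Q₀)) : D.om ρ o = ρ (D.j ⟨ofO Q₀ o, rfl⟩) := by
  rw [D.j_ofO]; rfl

variable [Finite F] [Finite K] [FiniteDimensional F V] (hQ : ND Q) (hρ : ρ.ker = (scal Q).range)
  (h5 : 5 ≤ Fintype.card ι)
include hQ hρ h5

omit [Finite F] [FiniteDimensional F V] in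
theorem ker_om : (D.om ρ).ker = center _ := Subgroup.ext fun o => by
  haveI : Nonempty ι := Fintype.card_pos_iff.1 (by omega)
  rw [MonoidHom.mem_ker, om_apply, ← MonoidHom.mem_ker, hρ, D.j_mem_range_scal,
    mem_center_commutator_iff (D.nd₀ hQ) (not_exc_of_five_le (by simpa)) (by simp; omega)]
  refine ⟨fun ⟨s, hs⟩ => ?_, ?_⟩
  · rcases scal_mul_ofO_inj (s := 1) (t := s) (o' := 1) (by simpa using hs.symm) with h | h
    exacts [.inl h.2, .inr (by simpa using h.2)]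
  · rintro (h | h) <;> simp only [h]
    exacts [⟨1, by simp⟩, ⟨-1, ofO_neg.symm⟩]

theorem range_om_le : (D.om ρ).range ≤ (ZOm Q).map ρ ⊓ centralizer {ρ ψ} := by
  have hV := D.finrank_eq
  haveI := nontrivial_of_finrank_pos (R := F) (M := V) (by omega)
  rintro _ ⟨o, rfl⟩
  exact ⟨mem_map_of_mem _ (ofO_mem_ZOm (map_mem_commutator D.jO o.2)), mem_centralizer_singleton_iff.2
    (by rw [om_apply]; exact ((D.commute_j hQ _).map ρ).eq.symm)⟩

theorem good [Finite A] {p : ℕ} [hp : Fact p.Prime] (ho : orderOf ψ.σ = p) (hpF : (p : F) ≠ 0)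
    (hφ : ∀ x, ψ.σ x = x → x ∈ φ.range) (hs : ∀ y, (∀ o, Commute y (D.om ρ o)) → y ∈ ρ.range)
    [((ZOm Q).map ρ).Normal] (hd : p ∣ Nat.card ↥((ZOm Q).map ρ ⊓ centralizer {ρ ψ})) :
    Bal.Good p ((ZOm Q).map ρ) (ρ ψ) := by
  have hV := D.finrank_eq
  haveI := nontrivial_of_finrank_pos (R := F) (M := V) (by omega)
  have h₀ := D.nd₀ hQ
  have h5' : 5 ≤ finrank K (ι → K) := by simpa
  have hE : ¬ Exc Q₀ := not_exc_of_five_le h5'
  obtain ⟨e, f, hef⟩ := exists_isHyp_of_three_le h₀ (by omega)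
  obtain ⟨w, -, hw⟩ := hef.exists_nonsingular h₀ (by omega)
  have h0 : ∀ s, ρ (scal Q s) = 1 := fun s => hρ.ge ⟨s, rfl⟩
  have key : ∀ g, ρ g ∈ centralizer {ρ ψ} → ∃ (s : Fˣ) (g₀ : Gam Q₀), Commute ψ (scal Q s * g) ∧
      (∀ a, φ (g₀.σ a) = g.σ (φ a)) ∧ (∀ v, D.e (φ ∘ g₀.T v) = (scal Q s * g).T (D.e (φ ∘ v))) ∧
      ∀ o, ρ g * D.om ρ o * (ρ g)⁻¹ = D.om ρ ⟨cj Q₀ g₀ o, g₀.cj_mem_commutator.2 o.2⟩ := fun g hg => by
    obtain ⟨s, h⟩ := exists_commute_of_rho hρ (D.pow_orderOf hQ)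
      (mem_centralizer_singleton_iff.1 hg).symm
    obtain ⟨g₀, h1, h2⟩ := D.exists_res hφ hw h
    exact ⟨_, g₀, h, h1, h2, fun o => Eq.symm <| (congrArg (fun x => ρ (ofO Q x)) (D.cj_jO h2 o)).symm.trans
      (by rw [ofO_cj, map_mul, map_mul, map_inv, map_mul, h0, one_mul]; rfl)⟩
  haveI := isSimpleGroup_pcom h₀ h5'
  refine Bal.good_of_subgroup _ (Bal.pPrimeCore_range_eq_bot _ (D.ker_om hQ hρ h5)
    (Bal.pPrimeCore_eq_bot_of_simple ?_)) (D.range_om_le hQ hρ h5) ?_ fun y hy hc h => ?_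
  · rcases hp.out.eq_two_or_odd' with rfl | hodd
    · exact two_dvd_card_pcom h₀ (fun h => hpF (by
        rw [Nat.cast_ofNat, ← map_ofNat φ 2, h, map_zero])) h5'
    obtain ⟨⟨_, ⟨g, hg, rfl⟩, hy⟩, h⟩ := exists_prime_orderOf_dvd_card' p hd
    obtain ⟨s, -, h1, -⟩ := key g hy
    obtain ⟨g₀, h2⟩ := D.exists_j_eq hφ ((mul_σ _ _).trans (by simpa [mem_GO] using ZOm_le_GO hg)) h1
    obtain ⟨t, o, h3⟩ := exists_eq_scal_mul_of_mu (g := g₀.1 * g₀.1) (g₀ * g₀).2 (by simp)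
    obtain ⟨u, o', ho', h4⟩ := mem_ZOm.1 (out_eq_one.1 (show out Q₀ (g₀ ^ 4 : GO Q₀) = 1 by
      rw [show (g₀ ^ 4 : GO Q₀).1 = g₀ * g₀ * (g₀ * g₀) by simp [pow_succ, mul_assoc], h3, map_mul,
        map_mul, out_scal, one_mul, out_ofO_mul_self h₀ hE]))
    have h6 : ρ g ^ 4 = D.om ρ ⟨o', ho'⟩ := by
      rw [← one_mul (ρ g), ← h0 s, ← map_mul, ← h2, ← map_pow, ← map_pow, show g₀ ^ 4 =
        ⟨scal _ u, rfl⟩ * ⟨ofO _ o', rfl⟩ from Subtype.ext h4, map_mul, map_mul, D.j_scal, h0, one_mul,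
        om_apply]
    rw [← Bal.card_range_eq _ (D.ker_om hQ hρ h5), ← h, ← orderOf_coe, ← Nat.Coprime.orderOf_pow
      (m := 4) (by rw [orderOf_coe, h]; exact (hodd.coprime_two_right).pow_right 2)]
    exact orderOf_dvd_natCard _ ⟨_, h6.symm⟩
  · rintro _ ⟨⟨g, -, rfl⟩, hy⟩ - _ ⟨o, rfl⟩
    obtain ⟨-, g₀, -, -, -, h⟩ := key g hy
    exact ⟨_, (h o).symm⟩
  obtain ⟨g, rfl⟩ := hs y fun o => h _ ⟨o, rfl⟩
  obtain ⟨t, g₀, -, h1, h2, h3⟩ := key g hy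
  obtain ⟨s, rfl⟩ : g₀ ∈ (scal Q₀).range := by
    rw [← ker_rho h₀ hE (by omega)]
    refine MulEquiv.ext fun x => ?_
    obtain ⟨o, rfl⟩ := QuotientGroup.mk_surjective x
    rw [rho_mk, MulAut.one_apply, QuotientGroup.eq, ← D.ker_om hQ hρ h5, MonoidHom.mem_ker, map_mul,
      map_inv, ← h3, (h _ ⟨o, rfl⟩).eq, mul_inv_cancel_right, inv_mul_cancel]
  have h4 : g.σ = 1 := by
    obtain ⟨u, hu⟩ : g ^ orderOf (ρ g) ∈ (scal Q).range := by
      rw [← hρ, MonoidHom.mem_ker, map_pow, pow_orderOf_eq_one]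
    refine orderOf_eq_one_iff.1 (Nat.eq_one_of_dvd_coprimes hc (orderOf_dvd_of_pow_eq_one ?_)
      (ho ▸ orderOf_dvd_of_mem_zpowers (mem_zpowers_of_fix fun x hx => ?_)))
    · rw [← pow_σ, ← hu, scal_σ]
    · obtain ⟨a, rfl⟩ := hφ x hx
      exact (h1 a).symm
  rw [← one_mul (ρ g), ← h0 t, ← map_mul, Gam.ext_T hQ (D.ext_T (g := scal Q t * g) (by simp [h4])
    (g' := scal Q (Units.map φ s)) rfl fun v => by rw [← h2]; simp [comp_smul']), h0, h0]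

theorem inf_ne_bot : (ZOm Q).map ρ ⊓ centralizer {ρ ψ} ≠ ⊥ := fun h =>
  center_commutator_ne_top (D.nd₀ hQ) (not_exc_of_five_le (by simpa)) (by simp; omega)
    (D.ker_om hQ hρ h5 ▸ top_le_iff.1 fun o _ => ((D.range_om_le hQ hρ h5).trans h.le) ⟨o, rfl⟩)

end FormData

theorem exists_pow_eq_one_of_rho [Finite F] [Nontrivial V] (hρ : ρ.ker = (scal Q).range) {g : Gam Q}
    {p : ℕ} [Fact p.Prime] (ho : orderOf (ρ g) = p) (hσ : g.σ ≠ 1) :
    ∃ ψ, ρ ψ = ρ g ∧ ψ.σ = g.σ ∧ orderOf ψ.σ = p ∧ ψ ^ orderOf ψ.σ = 1 := by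
  have h := orderOf_σ_eq hρ ho hσ
  obtain ⟨s, hs⟩ := exists_scal_mul_pow hρ (g := g) (by rw [h, ← ho, pow_orderOf_eq_one])
  exact ⟨scal Q s * g, by rw [map_mul, hρ.ge ⟨s, rfl⟩, one_mul], one_mul _, by simpa,
    by simpa using hs⟩

/-- The local balance criterion for automorphisms of field type. -/
theorem core_ne_bot_iff_field [Finite F] {Q : QuadraticForm F (ι → F)} (hQ : ND Q)
    (h5 : 5 ≤ Fintype.card ι) (hs : (rhoM Q).range = ⊤) {A : Subgroup (MulAut (POmega F ⇑Q))}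
    (hA : ∀ k, MulAut.conj k ∈ A) {p : ℕ} [Fact p.Prime] (hpF : (p : F) ≠ 0) {ψ : Gam Q}
    (ho : orderOf ψ.σ = p) (h1 : ψ ^ orderOf ψ.σ = 1) {P : Prop} (hP : P) :
    pPrimeCore p ↥(A ⊓ centralizer {rhoM Q ψ}) ≠ ⊥ ↔ P ∧ p.Coprime
      (Nat.card (MonoidHom.eqLocus (rhoM Q ψ).toMonoidHom (MonoidHom.id _))) := by
  obtain ⟨Q₀, ⟨D⟩⟩ := exists_formData (ι := ι) (orderOf_pos _) h1 (mem_range_fixField _) (by simp)
  have hρ := ker_rhoM hQ (not_exc_of_five_le (by simpa)) (by omega)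
  have hi : (MulAut.conj : _ →* _).range = (ZOm Q).map (rhoM Q) := inn_eq
  haveI : ((ZOm Q).map (rhoM Q)).Normal := hi ▸ inferInstance
  refine Bal.core_ne_bot_iff (center_pomega hQ h5) hA ?_ ?_ fun _ => hP
  · rw [hi]; exact D.inf_ne_bot hQ hρ h5
  · rw [hi]
    exact D.good hQ hρ h5 ho hpF (fun x => (mem_range_fixField _ x).1)
      fun y _ => hs.ge (mem_top y)

end Cfsg.Lib.Orth
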